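import Mathlib.LinearAlgebra.BilinearForm.Orthogonal
import Mathlib.LinearAlgebra.FreeModule.Finite.Quotient
import Mathlib.LinearAlgebra.FreeModule.PID
import Mathlib.LinearAlgebra.Dimension.Torsion.Finite
import Mathlib.LinearAlgebra.Dual.Lemmas
import Mathlib.LinearAlgebra.Dimension.Localization
import Mathlib.Algebra.Module.Torsion.Basic
import Mathlib.Tactic.Abel

/-!
# Positive definite integral lattices: restricted functionals
-/

namespace Groth.Agent.LatticeDual

variable {L : Type*} [AddCommGroup L] [Module.Finite ℤ L] [Module.Free ℤ L]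

/-- A functional on a sublattice has a nonzero multiple represented by the sublattice. -/
theorem exists_smul_repr (B : LinearMap.BilinForm ℤ L) (hpos : ∀ x, x ≠ 0 → 0 < B x x)
    (A : Submodule ℤ L) (ψ : Module.Dual ℤ A) :
    ∃ c : ℤ, c ≠ 0 ∧ ∃ a : A, ∀ a' : A, c * ψ a' = B a a' := by
  let f : A →ₗ[ℤ] Module.Dual ℤ A := (B.compl₂ A.subtype) ∘ₗ A.subtype
  have hf : Function.Injective f := by
    rw [← LinearMap.ker_eq_bot, LinearMap.ker_eq_bot']
    intro a ha
    by_contra h
    have h1 : B a.1 a.1 = 0 := LinearMap.congr_fun ha a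
    exact (hpos a.1 (fun h' => h (Subtype.ext h'))).ne' h1
  have hrk : Module.finrank ℤ (LinearMap.range f) = Module.finrank ℤ (Module.Dual ℤ A) := by
    rw [LinearMap.finrank_range_of_inj hf]
    exact ((Module.Free.chooseBasis ℤ A).toDualEquiv).finrank_eq
  have h0 : Module.finrank ℤ (Module.Dual ℤ A ⧸ LinearMap.range f) = 0 := by
    have := Submodule.finrank_quotient_add_finrank (LinearMap.range f)
    omega
  obtain ⟨c, hc, hcψ⟩ := Module.finrank_eq_zero_iff.1 h0 (Submodule.Quotient.mk ψ)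
  rw [← Submodule.Quotient.mk_smul, Submodule.Quotient.mk_eq_zero] at hcψ
  obtain ⟨a, ha⟩ := hcψ
  exact ⟨c, hc, a, fun a' => ((LinearMap.congr_fun ha a').symm)⟩

/-- A saturated sublattice is its own double orthogonal. -/
theorem mem_of_orth_orth (B : LinearMap.BilinForm ℤ L) (hsymm : B.IsSymm)
    (hpos : ∀ x, x ≠ 0 → 0 < B x x) (A : Submodule ℤ L)
    (htf : ∀ (c : ℤ) (x : L), c ≠ 0 → c • x ∈ A → x ∈ A) (y : L)
    (hy : ∀ b ∈ B.orthogonal A, B y b = 0) : y ∈ A := by
  obtain ⟨c, hc, a, ha⟩ := exists_smul_repr B hpos A ((B y).comp A.subtype)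
  have ha' : ∀ n ∈ A, c * B y n = B a.1 n := fun n hn => ha ⟨n, hn⟩
  have hmem : c • y - a.1 ∈ B.orthogonal A := by
    rw [LinearMap.BilinForm.mem_orthogonal_iff]
    intro n hn
    rw [hsymm.eq, map_sub, LinearMap.sub_apply, map_smul, LinearMap.smul_apply, smul_eq_mul, ha' n hn,
      sub_self]
  refine htf c y hc ?_
  by_contra hcy
  have hne : c • y - a.1 ≠ 0 := fun h => hcy (by rw [sub_eq_zero.1 h]; exact a.2)
  have h1 := hy _ hmem
  have h2 : B a.1 (c • y - a.1) = 0 := (LinearMap.BilinForm.mem_orthogonal_iff.1 hmem) a.1 a.2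
  have := hpos _ hne
  rw [LinearMap.map_sub₂, LinearMap.map_smul₂, h1, h2, smul_zero, sub_zero] at this
  exact lt_irrefl 0 this

/-- Functionals on a saturated sublattice extend. -/
theorem exists_extend (A : Submodule ℤ L) (htf : ∀ (c : ℤ) (x : L), c ≠ 0 → c • x ∈ A → x ∈ A)
    (ψ : Module.Dual ℤ A) : ∃ φ : Module.Dual ℤ L, φ ∘ₗ A.subtype = ψ := by
  haveI : Module.IsTorsionFree ℤ (L ⧸ A) := by
    refine Module.IsTorsionFree.of_smul_eq_zero fun c q hq => ?_
    induction q using Submodule.Quotient.induction_on with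
    | _ x =>
      rw [← Submodule.Quotient.mk_smul, Submodule.Quotient.mk_eq_zero] at hq
      by_cases hc : c = 0
      · exact Or.inl hc
      · exact Or.inr ((Submodule.Quotient.mk_eq_zero A).2 (htf c x hc hq))
  haveI : Module.Free ℤ (L ⧸ A) := Module.free_of_finite_type_torsion_free'
  obtain ⟨s, hs⟩ := Module.projective_lifting_property A.mkQ LinearMap.id (Submodule.mkQ_surjective A)
  let P : L →ₗ[ℤ] A := LinearMap.codRestrict A (LinearMap.id - s ∘ₗ A.mkQ) fun x => by
    rw [← Submodule.Quotient.mk_eq_zero A]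
    show A.mkQ (x - s (A.mkQ x)) = 0
    rw [map_sub, show A.mkQ (s (A.mkQ x)) = A.mkQ x from LinearMap.congr_fun hs (A.mkQ x), sub_self]
  refine ⟨ψ ∘ₗ P, LinearMap.ext fun a => congrArg ψ (Subtype.ext ?_)⟩
  show a.1 - s (A.mkQ a.1) = a.1
  rw [show A.mkQ a.1 = 0 from (Submodule.Quotient.mk_eq_zero A).2 a.2, map_zero, sub_zero]

end Groth.Agent.LatticeDual
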